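import Groth.Agent.L09.EtAlt.Vanish
import Groth.Agent.L09.EtCoh.Global
import Groth.Agent.L09.ModEt.WeakAss
import Groth.Agent.L23.Points

/-!
# Free sheaves on open regions of a space
-/

universe u

open CategoryTheory CategoryTheory.Limits AlgebraicGeometry Opposite AlgSp TopologicalSpace

set_option autoImplicit false
set_option linter.style.haveILetI false
set_option backward.isDefEq.respectTransparency false
set_option backward.isDefEq.respectTransparency.types false

noncomputable section

namespace Groth.L09.EtMV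

open Groth.L09.EtCoh

variable {S : Scheme.{u}} {X : Sp S} (L : Opens (Points X))

/-- An object lies over a region. -/
def InB (W : EtOver X) : Prop := ∀ w : W.obj.left.left, Points.ofPt W.obj.hom w ∈ L

theorem ofPt_map {W W' : EtOver X} (g : W' ⟶ W) (w : W'.obj.left.left) :
    Points.ofPt W'.obj.hom w = Points.ofPt W.obj.hom (g.hom.left.left w) :=
  (congrArg (fun k => Points.ofPt k w) (EtOver.w g).symm).trans (Groth.L23.ofPt_comp g.hom.left W.obj.hom w)

variable {L}

theorem InB.comp {W W' : EtOver X} (h : InB L W) (g : W' ⟶ W) : InB L W' := fun w =>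
  (ofPt_map g w).symm ▸ h _

theorem InB.mono {L' : Opens (Points X)} (h : L' ≤ L) {W : EtOver X} (hW : InB L' W) : InB L W :=
  fun w => h (hW w)

variable (L)

/-- The presheaf of sets with a point over the region. -/
def ptB : (EtOver X)ᵒᵖ ⥤ Type (u + 1) where
  obj W := ULift.{u + 1} (PLift (InB L W.unop))
  map g := ↾fun h => ⟨⟨InB.comp h.down.down g.unop⟩⟩
  map_id _ := rfl
  map_comp _ _ := rfl

/-- The free presheaf on the region. -/
def pB : (EtOver X)ᵒᵖ ⥤ AddCommGrpCat.{u + 1} := ptB L ⋙ AddCommGrpCat.free.{u + 1}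

/-- The generator. -/
def genB {W : EtOver X} (h : InB L W) : (pB L).obj (op W) := FreeAbelianGroup.of ⟨⟨h⟩⟩

/-- Families of sections over a region. -/
structure Fam (F : (EtOver X)ᵒᵖ ⥤ AddCommGrpCat.{u + 1}) where
  val : ∀ W : EtOver X, InB L W → F.obj (op W)
  nat : ∀ {W W' : EtOver X} (g : W' ⟶ W) (h : InB L W), F.map g.op (val W h) = val W' (h.comp g)

variable {L} {F : (EtOver X)ᵒᵖ ⥤ AddCommGrpCat.{u + 1}}

theorem Fam.ext' {s t : Fam L F} (h : ∀ W hW, s.val W hW = t.val W hW) : s = t := by
  cases s; cases t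
  congr
  funext W hW
  exact h W hW

theorem pB_hom_ext {f g : pB L ⟶ F} (h : ∀ (W : EtOver X) (hW : InB L W), f.app (op W) (genB L hW) = g.app (op W) (genB L hW)) :
    f = g :=
  NatTrans.ext (funext fun W => AddCommGrpCat.hom_ext (FreeAbelianGroup.lift_ext _ _ fun x => h W.unop x.down.down))

/-- The map out of the free presheaf of a family. -/
def Fam.toHom (s : Fam L F) : pB L ⟶ F where
  app W := AddCommGrpCat.ofHom (FreeAbelianGroup.lift fun x => s.val W.unop x.down.down)
  naturality W W' g := by
    refine AddCommGrpCat.hom_ext (FreeAbelianGroup.lift_ext _ _ fun x => ?_)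
    show FreeAbelianGroup.lift _ (FreeAbelianGroup.map _ (FreeAbelianGroup.of x)) =
      F.map g (FreeAbelianGroup.lift _ (FreeAbelianGroup.of x))
    rw [FreeAbelianGroup.map_of_apply, FreeAbelianGroup.lift_apply_of, FreeAbelianGroup.lift_apply_of]
    exact (s.nat g.unop _).symm

theorem Fam.toHom_gen (s : Fam L F) {W : EtOver X} (h : InB L W) : s.toHom.app (op W) (genB L h) = s.val W h :=
  FreeAbelianGroup.lift_apply_of _ _

theorem pB_map_gen {W W' : EtOver X} (g : W' ⟶ W) (h : InB L W) :
    (pB L).map g.op (genB L h) = genB L (h.comp g) := FreeAbelianGroup.map_of_apply _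

/-- The family of a map out of the free presheaf. -/
def famOf (f : pB L ⟶ F) : Fam L F where
  val W h := f.app (op W) (genB L h)
  nat g h := (NatTrans.naturality_apply f g.op _).symm.trans (congrArg (f.app _) (pB_map_gen g h))

variable (L)

/-- The free sheaf on the region. -/
abbrev shB : AbEt X := (presheafToSheaf (etTop X) AddCommGrpCat.{u + 1}).obj (pB L)

/-- Maps out of the free sheaf are families. -/
def shBEquiv (G : AbEt X) : (shB L ⟶ G) ≃ Fam L G.obj :=
  ((sheafificationAdjunction (etTop X) AddCommGrpCat.{u + 1}).homEquiv (pB L) G).trans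
    { toFun := famOf
      invFun := Fam.toHom
      left_inv := fun _ => pB_hom_ext fun _ hW => Fam.toHom_gen _ hW
      right_inv := fun s => Fam.ext' fun _ hW => Fam.toHom_gen s hW }

theorem shBEquiv_comp {G H : AbEt X} (k : shB L ⟶ G) (φ : G ⟶ H) (W : EtOver X) (hW : InB L W) :
    (shBEquiv L H (k ≫ φ)).val W hW = φ.hom.app (op W) ((shBEquiv L G k).val W hW) :=
  congrArg (fun m => m.app (op W) (genB L hW))
    ((sheafificationAdjunction (etTop X) AddCommGrpCat.{u + 1}).homEquiv_naturality_right k φ)

variable {L}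

/-- The map of free presheaves for an inclusion of regions. -/
def pInc {L' : Opens (Points X)} (h : L' ≤ L) : pB L' ⟶ pB L :=
  Fam.toHom { val := fun _ hW => genB L (hW.mono h), nat := fun g hW => pB_map_gen g (hW.mono h) }

/-- The map of free sheaves for an inclusion of regions. -/
def shInc {L' : Opens (Points X)} (h : L' ≤ L) : shB L' ⟶ shB L :=
  (presheafToSheaf (etTop X) AddCommGrpCat.{u + 1}).map (pInc h)

theorem shBEquiv_inc {L' : Opens (Points X)} (h : L' ≤ L) {G : AbEt X} (k : shB L ⟶ G) (W : EtOver X)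
    (hW : InB L' W) : (shBEquiv L' G (shInc h ≫ k)).val W hW = (shBEquiv L G k).val W (hW.mono h) := by
  refine (congrArg (fun m => m.app (op W) (genB L' hW))
    ((sheafificationAdjunction (etTop X) AddCommGrpCat.{u + 1}).homEquiv_naturality_left (pInc h) k)).trans ?_
  exact congrArg (((sheafificationAdjunction (etTop X) AddCommGrpCat.{u + 1}).homEquiv (pB L) G k).app (op W))
    (Fam.toHom_gen _ hW)

/-- The free sheaf on an object over the region maps to that of the region. -/
def objInc {V : EtOver X} (h : InB L V) : fsh V ⟶ shB L :=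
  (presheafToSheaf (etTop X) AddCommGrpCat.{u + 1}).map (fromGen (genB L h))

theorem fshEquiv_objInc {V : EtOver X} (h : InB L V) {G : AbEt X} (k : shB L ⟶ G) :
    fshEquiv V G (objInc h ≫ k) = (shBEquiv L G k).val V h := by
  refine (congrArg (fun m => m.app (op V) (gen (𝟙 V)))
    ((sheafificationAdjunction (etTop X) AddCommGrpCat.{u + 1}).homEquiv_naturality_left (fromGen (genB L h)) k)).trans ?_
  show ((sheafificationAdjunction (etTop X) AddCommGrpCat.{u + 1}).homEquiv (pB L) G k).app (op V)
    ((fromGen (genB L h)).app (op V) (gen (𝟙 V))) = _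
  rw [fromGen_gen, op_id]
  exact congrArg _ (ConcreteCategory.congr_hom ((pB L).map_id (op V)) _)

/-- The map of free sheaves of a morphism. -/
def fshMap {U V : EtOver X} (g : V ⟶ U) : fsh V ⟶ fsh U :=
  (presheafToSheaf (etTop X) AddCommGrpCat.{u + 1}).map (fpMap g)

theorem fshEquiv_map {U V : EtOver X} (g : V ⟶ U) {G : AbEt X} (k : fsh U ⟶ G) :
    fshEquiv V G (fshMap g ≫ k) = ares G g (fshEquiv U G k) := by
  refine (congrArg (fun m => m.app (op V) (gen (𝟙 V)))
    ((sheafificationAdjunction (etTop X) AddCommGrpCat.{u + 1}).homEquiv_naturality_left (fpMap g) k)).trans ?_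
  show ((sheafificationAdjunction (etTop X) AddCommGrpCat.{u + 1}).homEquiv (fp U) G k).app (op V)
    ((fpMap g).app (op V) (gen (𝟙 V))) = ares G g
      (((sheafificationAdjunction (etTop X) AddCommGrpCat.{u + 1}).homEquiv (fp U) G k).app (op U) (gen (𝟙 U)))
  rw [fpMap_gen, Category.id_comp]
  exact (congrArg _ ((fp_map_gen g (𝟙 U)).trans (congrArg gen (Category.comp_id g))).symm).trans
    (NatTrans.naturality_apply _ g.op _)

theorem mono_fshMap {U V : EtOver X} (g : V ⟶ U) [Mono g] : Mono (fshMap g) := by
  haveI : Mono (fpMap g) := by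
    rw [NatTrans.mono_iff_mono_app]
    intro W
    rw [AddCommGrpCat.mono_iff_injective]
    refine Function.LeftInverse.injective (g := FreeAbelianGroup.lift fun a : ULift.{u + 1} (W.unop ⟶ U) =>
      letI := Classical.propDecidable (∃ b : W.unop ⟶ V, b ≫ g = a.down)
      if h : ∃ b : W.unop ⟶ V, b ≫ g = a.down then FreeAbelianGroup.of (ULift.up.{u + 1} h.choose) else 0) fun x => ?_
    induction x using FreeAbelianGroup.induction_on with
    | zero => simp only [map_zero]
    | of b =>
      show FreeAbelianGroup.lift _ ((fpMap g).app W (gen b.down)) = _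
      rw [show (fpMap g).app W (gen b.down) = gen (b.down ≫ g) from fpMap_gen g b.down]
      refine (FreeAbelianGroup.lift_apply_of _ _).trans ?_
      rw [dif_pos ⟨b.down, rfl⟩]
      exact congrArg FreeAbelianGroup.of (ULift.ext _ _ ((cancel_mono g).1
        (Exists.choose_spec (p := fun c : W.unop ⟶ V => c ≫ g = b.down ≫ g) ⟨b.down, rfl⟩)))
    | neg b hb => simp only [map_neg, hb]
    | add x y hx hy => simp only [map_add, hx, hy]
  exact inferInstanceAs (Mono ((presheafToSheaf (etTop X) AddCommGrpCat.{u + 1}).map (fpMap g)))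

/-- The constant presheaf is the free presheaf on everything. -/
def zTopIso : zP X ≅ pB (⊤ : Opens (Points X)) where
  hom :=
    { app := fun W => AddCommGrpCat.ofHom
        ((zmultiplesHom ((pB (⊤ : Opens (Points X))).obj W) (genB ⊤ (W := W.unop) fun _ => trivial)).comp
          AddEquiv.ulift.toAddMonoidHom)
      naturality := fun W W' a => by
        refine AddCommGrpCat.hom_ext (AddMonoidHom.ext fun n => ?_)
        show n.down • genB ⊤ _ = (pB (⊤ : Opens (Points X))).map a.unop.op (n.down • genB ⊤ _)
        rw [map_zsmul, pB_map_gen] }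
  inv := Fam.toHom { val := fun _ _ => ⟨1⟩, nat := fun _ _ => rfl }
  hom_inv_id := NatTrans.ext (funext fun W => AddCommGrpCat.hom_ext (AddMonoidHom.ext fun n => by
    show (Fam.toHom (L := (⊤ : Opens (Points X))) (F := zP X) ⟨fun _ _ => ⟨1⟩, fun _ _ => rfl⟩).app W
      (n.down • genB ⊤ _) = n
    rw [map_zsmul, Fam.toHom_gen]
    show n.down • ULift.up.{u + 1} (1 : ℤ) = n
    ext
    simp))
  inv_hom_id := pB_hom_ext fun W hW => by
    rw [NatTrans.comp_app, ConcreteCategory.comp_apply, Fam.toHom_gen]
    show (1 : ℤ) • genB ⊤ _ = genB ⊤ hW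
    rw [one_smul]

end Groth.L09.EtMV
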