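import Groth.Agent.L09.EtMV.Opens
import Groth.Agent.L09.Filtration.Main
import Groth.Agent.L23.QcCalc

/-!
# Bounded cohomology of quasi-compact quasi-separated spaces
-/

universe u

open CategoryTheory CategoryTheory.Limits AlgebraicGeometry Opposite AlgSp TopologicalSpace CategoryTheory.Abelian

set_option autoImplicit false
set_option linter.style.haveILetI false
set_option backward.isDefEq.respectTransparency false
set_option backward.isDefEq.respectTransparency.types false

noncomputable section

namespace Groth.L09.EtMV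

open Groth.L09.EtCoh Groth.L09.EtAlt Groth.L09.Filtration
open Groth.L09.ModEt (openObj openι exists_common)

variable {S : Scheme.{u}} {X : Sp S}

theorem sep_of_geometric (L' : Opens (Points X)) (V : EtOver X)
    (huniq : ∀ {K : Type u} [Field K] [IsAlgClosed K] {w : Spec (CommRingCat.of K) ⟶ S}
        (q : (yon S).obj (Over.mk w) ⟶ X) (z : ↥(Spec (CommRingCat.of K))), Points.ofPt q z ∉ L' →
        ∀ y y' : Over.mk w ⟶ V.obj.left, (yon S).map y ≫ V.obj.hom = q → (yon S).map y' ≫ V.obj.hom = q → y = y')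
    (W : EtOver X) (g₁ g₂ : W ⟶ V) (w : W.obj.left.left) (hw : Points.ofPt W.obj.hom w ∉ L') :
    w ∈ Set.range (EtOver.pullbackFst (pl g₁ g₂) (diagU V)).hom.left.left := by
  let K : Type u := AlgebraicClosure ↥(W.obj.left.left.residueField w)
  let ξ₀ : Spec (CommRingCat.of K) ⟶ W.obj.left.left :=
    Spec.map (CommRingCat.ofHom (algebraMap ↥(W.obj.left.left.residueField w) K)) ≫
      W.obj.left.left.fromSpecResidueField w
  let st : Spec (CommRingCat.of K) ⟶ S := ξ₀ ≫ W.obj.left.hom
  let ξ : Over.mk st ⟶ W.obj.left := Over.homMk ξ₀ rfl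
  let z : Spec (CommRingCat.of K) := IsLocalRing.closedPoint K
  have hξ : ξ.left z = w :=
    comp_fromSpec_apply w (Spec.map (CommRingCat.ofHom (algebraMap ↥(W.obj.left.left.residueField w) K))) z
  have hz : Points.ofPt ((yon S).map ξ ≫ W.obj.hom) z = Points.ofPt W.obj.hom w :=
    (Groth.L23.ofPt_comp ξ W.obj.hom z).trans (congrArg _ hξ)
  have hlift : ∀ g : W ⟶ V, (yon S).map (ξ ≫ g.hom.left) ≫ V.obj.hom = (yon S).map ξ ≫ W.obj.hom := fun g => by
    rw [Functor.map_comp, Category.assoc, EtOver.w g]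
  have heq : ξ ≫ g₁.hom.left = ξ ≫ g₂.hom.left :=
    huniq ((yon S).map ξ ≫ W.obj.hom) z (fun hm => hw (hz ▸ hm)) _ _ (hlift g₁) (hlift g₂)
  have hk : (ξ ≫ g₁.hom.left) ≫ (diagU V).hom.left = ξ ≫ (pl g₁ g₂).hom.left := by
    refine hom_ext_pt V ?_ ?_
    · have h1 := congrArg (fun k => k.hom.left) (pl_fst (𝟙 V) (𝟙 V))
      have h2 := congrArg (fun k => k.hom.left) (pl_fst g₁ g₂)
      exact ((Category.assoc _ _ _).trans ((congrArg _ h1).trans (Category.comp_id _))).trans
        ((Category.assoc _ _ _).trans (congrArg _ h2)).symm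
    · have h1 := congrArg (fun k => k.hom.left) (pl_snd (𝟙 V) (𝟙 V))
      have h2 := congrArg (fun k => k.hom.left) (pl_snd g₁ g₂)
      exact ((Category.assoc _ _ _).trans ((congrArg _ h1).trans (Category.comp_id _))).trans
        (((Category.assoc _ _ _).trans (congrArg _ h2)).trans heq.symm).symm
  have hk' : (pl g₁ g₂).hom.left.left w = (diagU V).hom.left.left ((ξ ≫ g₁.hom.left).left z) := by
    exact (congrArg (pl g₁ g₂).hom.left.left hξ.symm).trans (congrArg (fun k => k.left z) hk).symm
  obtain ⟨p, hp, -⟩ := Scheme.exists_preimage_of_isPullback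
    ((EtOver.isPullback (pl g₁ g₂) (diagU V)).map (EtOver.toScheme X)) w _ hk'
  exact ⟨p, hp⟩

theorem isCompact_preOpen [QuasiSeparatedSpace ↥S] (hqs : IsQuasiSeparatedSp X) (V W : EtOver X)
    [CompactSpace V.obj.left.left] [CompactSpace W.obj.left.left] (L : Opens (Points X))
    (hL : (L : Set (Points X)) = Set.range (Points.ofPt W.obj.hom)) :
    IsCompact (preOpen L V : Set V.obj.left.left) := by
  have sq : IsPullback ((yon S).map (W.property.1.fst' V.obj.hom))
      ((yon S).map (W.property.1.snd V.obj.hom)) W.obj.hom V.obj.hom := by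
    rw [Functor.relativelyRepresentable.map_fst']
    exact W.property.1.isPullback V.obj.hom
  haveI : CompactSpace (EtOver.prodObj V W).obj.left.left := Groth.L23.compactSpace_of_qs hqs sq
  rw [show (preOpen L V : Set V.obj.left.left) = Set.range (EtOver.prodFst V W).hom.left.left from Set.ext fun v => ?_]
  · exact isCompact_range (Scheme.Hom.continuous _)
  · show Points.ofPt V.obj.hom v ∈ (L : Set (Points X)) ↔ _
    rw [hL]
    constructor
    · rintro ⟨x, hx⟩
      obtain ⟨W', -, g₁, g₂, w', hw', -⟩ := exists_common v x hx.symm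
      refine ⟨(pl g₁ g₂).hom.left.left w', ?_⟩
      rw [← hw']
      exact congrArg (fun k => k.hom.left.left w') (pl_fst g₁ g₂)
    · rintro ⟨p, rfl⟩
      exact ⟨(EtOver.prodSnd V W).hom.left.left p, by rw [← ofPt_map, ← ofPt_map]⟩

theorem exists_bound_open {V : EtOver X} [V.obj.left.left.IsSeparated] {B : V.obj.left.left.Opens}
    (hB : IsCompact (B : Set V.obj.left.left)) :
    ∃ n, ∀ F : AbEt X, Cok F → ∀ q, n ≤ q → Subsingleton (Ext.{u + 1} (fsh (openObj V B)) F q) := by
  obtain ⟨s, hs, hBs⟩ := isCompact_iff_finite_and_eq_biUnion_affineOpens.1 hB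
  let l : List V.obj.left.left.Opens := hs.toFinset.toList.map (fun C : V.obj.left.left.affineOpens => C.1)
  have hl : l.foldr (· ⊔ ·) ⊥ = B := by
    have key : ∀ (k : List V.obj.left.left.Opens) (x : V.obj.left.left),
        x ∈ k.foldr (· ⊔ ·) ⊥ ↔ ∃ C ∈ k, x ∈ C := by
      intro k x
      induction k with
      | nil => simp
      | cons a k h => simp only [List.foldr_cons, List.mem_cons, exists_eq_or_imp, Opens.mem_sup, h]
    refine Opens.ext (Set.ext fun x => ?_)
    show x ∈ l.foldr (· ⊔ ·) ⊥ ↔ x ∈ B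
    rw [key, hBs]
    simp [l, Opens.mem_iSup]
  refine ⟨l.length, fun F hF q hq => ?_⟩
  rw [← hl]
  refine subsingleton_ext_of_list F hF l.length l rfl (fun C hC => ?_) q hq
  obtain ⟨C', -, rfl⟩ := List.mem_map.1 hC
  exact C'.2

/-- Cohomological dimension of a quasi-compact quasi-separated space is finite. -/
theorem exists_bound [QuasiSeparatedSpace ↥S] (hX : IsAlgSpace X) (hqc : IsQuasiCompactSp X)
    (hqs : IsQuasiSeparatedSp X) :
    ∃ n : ℕ, ∀ F : AbEt X, Cok F → ∀ q, n ≤ q → Subsingleton (HEt X F q) := by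
  obtain ⟨U, φ, hU, hφ, hφs⟩ := exists_affine_atlas hqc
  haveI := hU
  obtain ⟨R, t, s, sq⟩ := Groth.L23.exists_isPullback_of_representable hφ.1 φ
  haveI : Etale s.left := Groth.L23.repWith_prop hφ sq
  haveI : R.left.IsSeparated := isSeparated_rel sq
  haveI : IsSeparated (s.left ≫ terminal.from U.left) := by rw [terminal.comp_from]; infer_instance
  haveI : IsSeparated s.left := IsSeparated.of_comp s.left (terminal.from U.left)
  let D : ∀ m, Tuples φ m := fun m => Classical.choice (exists_tuples sq m)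
  have hφq : RepWith @QuasiCompact φ := repWith_quasiCompact hX hqs φ hφ.1
  obtain ⟨N, hN⟩ := exists_level_eq_empty hX hφ hφq D
  let L : ℕ → Opens (Points X) := fun m => ⟨level φ D m, isOpen_level hφ D m⟩
  have main : ∀ k m, N ≤ m + k → ∃ n, ∀ F : AbEt X, Cok F → ∀ q, n ≤ q →
      Subsingleton (Ext.{u + 1} (shB (L m)) F q) := by
    intro k
    induction k with
    | zero =>
      intro m hm
      have hle : level φ D m = ∅ := Set.eq_empty_of_subset_empty
        (hN ▸ level_antitone hφ D (show N ≤ m by omega))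
      refine ⟨0, fun F _ q _ => ?_⟩
      have hz : IsZero (shB (L m)) := by
        refine (IsZero.iff_id_eq_zero _).2 ((shBEquiv (L m) (shB (L m))).injective (Fam.ext' fun W hW => ?_))
        haveI : IsEmpty W.obj.left.left := ⟨fun w => by
          have := hW w
          change _ ∈ level φ D m at this
          rwa [hle] at this⟩
        exact aeq_of_cover (shB (L m)) (ι := PEmpty.{1}) (V := PEmpty.elim) (c := fun i => i.elim)
          (fun x => isEmptyElim x) fun i => i.elim
      exact subsingleton_ext_of_isZero hz q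
    | succ k ih =>
      intro m hm
      obtain ⟨n', hn'⟩ := ih (m + 1) (by omega)
      obtain ⟨M, h, hsep, hhe, hhr, hcpt, huniq⟩ := exists_levelChart hX hφ D m
      let V : EtOver X := EtOver.mk h hhe
      haveI : V.obj.left.left.IsSeparated := hsep
      haveI : CompactSpace V.obj.left.left := hcpt hφq
      let W₀ : EtOver X := EtOver.mk ((yon S).map ((D (m + 1)).π 0) ≫ φ) (repWith_etale_proj hφ (D (m + 1)))
      haveI : CompactSpace W₀.obj.left.left := (D (m + 1)).compact hφq
      have hsq : Sq (L (m + 1)) (L m) V :=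
        { le := level_succ_subset hφ D m
          inB := fun v => hhr.le ⟨v, rfl⟩
          cover := fun x hx _ => hhr.ge hx
          sep := sep_of_geometric (L (m + 1)) V fun q z hz y y' hy hy' => huniq q z hz y y' hy hy' }
      obtain ⟨nO, hnO⟩ := exists_bound_open (isCompact_preOpen hqs V W₀ (L (m + 1)) rfl)
      obtain ⟨nV, hnV⟩ := exists_bound_open (V := V) (B := ⊤) CompactSpace.isCompact_univ
      refine ⟨n' + nV + nO + 1, fun F hF q hq => ?_⟩
      obtain ⟨p, rfl⟩ : ∃ p, q = p + 1 := ⟨q - 1, by omega⟩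
      haveI : Subsingleton (Ext.{u + 1} (seq hsq).X₁ F p) := hnO F hF p (by omega)
      haveI : Subsingleton (Ext.{u + 1} (shB (L (m + 1))) F (p + 1)) := hn' F hF _ (by omega)
      haveI : Subsingleton (Ext.{u + 1} (fsh V) F (p + 1)) := by
        haveI := hnV F hF (p + 1) (by omega)
        haveI : IsIso (openι V ⊤) := by
          obtain ⟨g, hg⟩ := exists_factor_openι (L := (⊤ : Opens (Points X))) (𝟙 V) (fun _ => trivial)
          haveI : Mono (openι V (preOpen (⊤ : Opens (Points X)) V)) := mono_openι V _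
          exact ⟨g, by rw [← cancel_mono (openι V ⊤), Category.assoc]; erw [hg]; simp, hg⟩
        let i := (presheafToSheaf (etTop X) AddCommGrpCat.{u + 1}).map (fpMap (openι V ⊤))
        haveI : IsIso (fpMap (openι V ⊤)) :=
          inferInstanceAs (IsIso (Functor.whiskerRight (uliftYoneda.{u + 1}.map (openι V ⊤)) _))
        refine subsingleton_of_forall_eq 0 fun x => ?_
        have h' : (Ext.mk₀ (inv i)).comp ((Ext.mk₀ i).comp x (zero_add _)) (zero_add _) = x := by
          rw [Ext.mk₀_comp_mk₀_assoc, IsIso.inv_hom_id, Ext.mk₀_id_comp]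
        rw [← h', Subsingleton.elim ((Ext.mk₀ i).comp x (zero_add _)) 0, Ext.comp_zero]
      haveI : Subsingleton (Ext.{u + 1} (seq hsq).X₂ F (p + 1)) := subsingleton_ext_biprod
      exact subsingleton_of_ses (shortExact_seq hsq) (q := p)
  obtain ⟨n, hn⟩ := main N 0 (by omega)
  refine ⟨n, fun F hF q hq => ?_⟩
  haveI := hn F hF q hq
  have hL0 : L 0 = ⊤ := Opens.ext (level_zero hφ hφs D)
  rw [hL0] at this
  let i := (presheafToSheaf (etTop X) AddCommGrpCat.{u + 1}).mapIso (zTopIso (X := X))
  refine subsingleton_of_forall_eq 0 fun x => ?_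
  have h' : (Ext.mk₀ i.hom).comp ((Ext.mk₀ i.inv).comp x (zero_add _)) (zero_add _) = x := by
    rw [Ext.mk₀_comp_mk₀_assoc, Iso.hom_inv_id, Ext.mk₀_id_comp]
  rw [← h', Subsingleton.elim ((Ext.mk₀ i.inv).comp x (zero_add _)) 0, Ext.comp_zero]

end Groth.L09.EtMV
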