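import Groth.Agent.L09.EtMV.Zariski
import Groth.Agent.L09.EtMV.Level
import Groth.Prelude.Def_AlgSpDec

/-!
# Vanishing of cohomology above the dimension
-/

universe u

open CategoryTheory CategoryTheory.Limits AlgebraicGeometry Opposite AlgSp TopologicalSpace CategoryTheory.Abelian

set_option autoImplicit false
set_option linter.style.haveILetI false
set_option backward.isDefEq.respectTransparency false
set_option backward.isDefEq.respectTransparency.types false

noncomputable section

namespace Groth.L09.EtMV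

open Groth.L09.EtCoh Groth.L09.EtAlt Groth.L09.Filtration
open Groth.L09.ModEt (openObj openι)

variable {S : Scheme.{u}} {X : Sp S}

/-- A quasi-compact quasi-separated space is built from squares with quasi-compact separated schemes. -/
theorem exists_levels [QuasiSeparatedSpace ↥S] (hX : IsAlgSpace X) (hqc : IsQuasiCompactSp X)
    (hqs : IsQuasiSeparatedSp X) :
    ∃ (N : ℕ) (L : ℕ → Opens (Points X)), L 0 = ⊤ ∧ (∀ m, N ≤ m → L m = ⊥) ∧
      ∀ m, ∃ V : EtOver X, V.obj.left.left.IsSeparated ∧ CompactSpace V.obj.left.left ∧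
        Sq (L (m + 1)) (L m) V ∧ IsCompact (preOpen (L (m + 1)) V : Set V.obj.left.left) := by
  obtain ⟨U, φ, hU, hφ, hφs⟩ := exists_affine_atlas hqc
  haveI := hU
  obtain ⟨R, t, s, sq⟩ := Groth.L23.exists_isPullback_of_representable hφ.1 φ
  haveI : Etale s.left := Groth.L23.repWith_prop hφ sq
  haveI : R.left.IsSeparated := isSeparated_rel sq
  haveI : IsSeparated (s.left ≫ terminal.from U.left) := by rw [terminal.comp_from]; infer_instance
  haveI : IsSeparated s.left := IsSeparated.of_comp s.left (terminal.from U.left)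
  let D : ∀ m, Tuples φ m := fun m => Classical.choice (exists_tuples sq m)
  have hφq : RepWith @QuasiCompact φ := repWith_quasiCompact hX hqs φ hφ.1
  obtain ⟨N, hN⟩ := exists_level_eq_empty hX hφ hφq D
  let L : ℕ → Opens (Points X) := fun m => ⟨level φ D m, isOpen_level hφ D m⟩
  refine ⟨N, L, Opens.ext (level_zero hφ hφs D), fun m hm => Opens.ext (Set.eq_empty_of_subset_empty
    (hN ▸ level_antitone hφ D hm)), fun m => ?_⟩
  obtain ⟨M, h, hsep, hhe, hhr, hcpt, huniq⟩ := exists_levelChart hX hφ D m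
  let V : EtOver X := EtOver.mk h hhe
  haveI : CompactSpace V.obj.left.left := hcpt hφq
  let W₀ : EtOver X := EtOver.mk ((yon S).map ((D (m + 1)).π 0) ≫ φ) (repWith_etale_proj hφ (D (m + 1)))
  haveI : CompactSpace W₀.obj.left.left := (D (m + 1)).compact hφq
  exact ⟨V, hsep, hcpt hφq,
    { le := level_succ_subset hφ D m
      inB := fun v => hhr.le ⟨v, rfl⟩
      cover := fun x hx _ => hhr.ge hx
      sep := sep_of_geometric (L (m + 1)) V fun q z hz y y' hy hy' => huniq q z hz y y' hy hy' },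
    isCompact_preOpen hqs V W₀ (L (m + 1)) rfl⟩

/-- The dimension of an object is bounded by that of the space. -/
theorem krullDim_le (V : EtOver X) {d : ℕ} (hd : AlgSp.dim X ≤ (d : WithBot ℕ∞)) :
    topologicalKrullDim (Vt V) ≤ (d : WithBot ℕ∞) := by
  have h : topologicalKrullDim (Vt V) = topologicalKrullDim V.obj.left.left :=
    IsHomeomorph.topologicalKrullDim_eq _ (Homeomorph.ulift.{u + 1} (X := ↥V.obj.left.left)).isHomeomorph
  refine h.le.trans (le_trans ?_ hd)
  exact le_iSup_of_le V.obj.left (le_iSup_of_le V.obj.hom (le_iSup_of_le V.property le_rfl))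

/-- The open of the lifted space of an open of the scheme. -/
def upB (V : EtOver X) (B : V.obj.left.left.Opens) : Opens (Vt V) :=
  ⟨ULift.down ⁻¹' B, B.isOpen.preimage continuous_uliftDown⟩

theorem isCompact_upB {V : EtOver X} {B : V.obj.left.left.Opens} (hB : IsCompact (B : Set V.obj.left.left)) :
    IsCompact (upB V B : Set (Vt V)) :=
  (Homeomorph.ulift.{u + 1} (X := ↥V.obj.left.left)).isCompact_preimage.2 hB

variable (V : EtOver X) [V.obj.left.left.IsSeparated] [CompactSpace V.obj.left.left]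

theorem subsingleton_ext_open_of_dim {d : ℕ} (hd : AlgSp.dim X ≤ (d : WithBot ℕ∞)) {B : V.obj.left.left.Opens}
    (hB : IsCompact (B : Set V.obj.left.left)) (F : AbEt X) (hF : Cok F) (q : ℕ) (hq : d < q) :
    Subsingleton (Ext.{u + 1} (fsh (openObj V B)) F q) := by
  haveI := spectralSpace_Vt V
  obtain ⟨p, rfl⟩ : ∃ p, q = p + 1 := ⟨q - 1, by omega⟩
  obtain ⟨e⟩ := nonempty_ext_open V (upB V B) F hF (p + 1)
  haveI := Groth.L10.Spectral.subsingleton_HU ((rF V).obj F) (krullDim_le V hd) p hq (upB V B) (isCompact_upB hB)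
  exact e.toEquiv.subsingleton

theorem extSurj_openι {d : ℕ} (hd : AlgSp.dim X ≤ (d : WithBot ℕ∞)) {B : V.obj.left.left.Opens}
    (hB : IsCompact (B : Set V.obj.left.left)) (F : AbEt X) (hF : Cok F) :
    ExtSurj.{u + 1} (fshMap (openι V B)) F d := by
  haveI := spectralSpace_Vt V
  have h := (Groth.L10.Spectral.vanishing_and_surjective (krullDim_le V hd) (d + 1) 0 (zero_add _) ((rF V).obj F)
    (Groth.L10.Spectral.supp_zero _)).2 d (add_zero _) (upB V B) (isCompact_upB hB)
  have h' := extSurj_open V (homOfLE (le_top : upB V B ≤ ⊤)) d F hF h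
  have heq : fshMap ((opFun V).map (homOfLE (le_top : upB V B ≤ ⊤))) ≫ fshMap (openι V (dnB V ⊤)) =
      fshMap (openι V B) := by
    rw [fshMap, fshMap, fshMap, ← Functor.map_comp]
    refine congrArg _ (fp_hom_ext ?_)
    rw [NatTrans.comp_app, ConcreteCategory.comp_apply, fpMap_gen, fpMap_gen, Category.id_comp]
    exact (congrArg gen ((oMap_ι _).trans (Category.id_comp _).symm)).trans (fpMap_gen _ _).symm
  haveI : IsIso (openι V (dnB V ⊤)) := by
    obtain ⟨g, hg⟩ := exists_factor_openι (L := (⊤ : Opens (Points X))) (𝟙 V) (fun _ => trivial)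
    haveI : Mono (openι V (dnB V ⊤)) := mono_openι V _
    exact ⟨g, by rw [← cancel_mono (openι V (dnB V ⊤)), Category.assoc]; erw [hg]; simp, hg⟩
  haveI : IsIso (fshMap (openι V (dnB V ⊤))) := by
    haveI : IsIso (fpMap (openι V (dnB V ⊤))) :=
      inferInstanceAs (IsIso (Functor.whiskerRight (uliftYoneda.{u + 1}.map (openι V (dnB V ⊤))) _))
    exact inferInstanceAs (IsIso ((presheafToSheaf (etTop X) AddCommGrpCat.{u + 1}).map _))
  intro x
  obtain ⟨z, hz⟩ := h' x
  refine ⟨(Ext.mk₀ (inv (fshMap (openι V (dnB V ⊤))))).comp z (zero_add d), ?_⟩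
  show (Ext.mk₀ (fshMap (openι V B))).comp _ _ = x
  rw [← heq, Ext.mk₀_comp_mk₀_assoc, Category.assoc, IsIso.hom_inv_id, Category.comp_id]
  exact hz

omit [V.obj.left.left.IsSeparated] [CompactSpace V.obj.left.left] in
theorem subsingleton_ext_of_top {F : AbEt X} {q : ℕ}
    (h : Subsingleton (Ext.{u + 1} (fsh (openObj V ⊤)) F q)) : Subsingleton (Ext.{u + 1} (fsh V) F q) := by
  haveI : IsIso (openι V ⊤) := by
    obtain ⟨g, hg⟩ := exists_factor_openι (L := (⊤ : Opens (Points X))) (𝟙 V) (fun _ => trivial)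
    haveI : Mono (openι V (preOpen (⊤ : Opens (Points X)) V)) := mono_openι V _
    exact ⟨g, by rw [← cancel_mono (openι V ⊤), Category.assoc]; erw [hg]; simp, hg⟩
  let i := (presheafToSheaf (etTop X) AddCommGrpCat.{u + 1}).map (fpMap (openι V ⊤))
  haveI : IsIso (fpMap (openι V ⊤)) :=
    inferInstanceAs (IsIso (Functor.whiskerRight (uliftYoneda.{u + 1}.map (openι V ⊤)) _))
  refine subsingleton_of_forall_eq 0 fun x => ?_
  have h' : (Ext.mk₀ (inv i)).comp ((Ext.mk₀ i).comp x (zero_add _)) (zero_add _) = x := by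
    rw [Ext.mk₀_comp_mk₀_assoc, IsIso.inv_hom_id, Ext.mk₀_id_comp]
  rw [← h', Subsingleton.elim ((Ext.mk₀ i).comp x (zero_add _)) 0, Ext.comp_zero]

omit [V.obj.left.left.IsSeparated] [CompactSpace V.obj.left.left] in
theorem eq_zero_of_extSurj {T : ShortComplex (AbEt X)} (hT : T.ShortExact) {F : AbEt X} {q : ℕ}
    (h₂ : Subsingleton (Ext.{u + 1} T.X₂ F (q + 1))) (hs : ExtSurj.{u + 1} T.f F q)
    (x : Ext.{u + 1} T.X₃ F (q + 1)) : x = 0 := by
  obtain ⟨y, rfl⟩ := Ext.contravariant_sequence_exact₃ hT _ x (Subsingleton.elim _ _) (add_comm 1 q)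
  obtain ⟨z, rfl⟩ := hs y
  exact hT.extClass_comp_assoc z

/-- Vanishing above the dimension. -/
theorem subsingleton_hEt_of_dim [QuasiSeparatedSpace ↥S] (hX : IsAlgSpace X) (hqc : IsQuasiCompactSp X)
    (hqs : IsQuasiSeparatedSp X) {d : ℕ} (hd : AlgSp.dim X ≤ (d : WithBot ℕ∞)) (F : AbEt X) (hF : Cok F)
    (q : ℕ) (hq : d < q) : Subsingleton (HEt X F q) := by
  obtain ⟨N, L, hL0, hLN, hsq⟩ := exists_levels hX hqc hqs
  have main : ∀ k m, N ≤ m + k → ∀ q, d < q → Subsingleton (Ext.{u + 1} (shB (L m)) F q) := by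
    intro k
    induction k with
    | zero =>
      intro m hm q _
      have hz : IsZero (shB (L m)) := by
        refine (IsZero.iff_id_eq_zero _).2 ((shBEquiv (L m) (shB (L m))).injective (Fam.ext' fun W hW => ?_))
        haveI : IsEmpty W.obj.left.left := ⟨fun w => by
          have := hW w
          rw [hLN m (by omega)] at this
          exact this.elim⟩
        exact aeq_of_cover (shB (L m)) (ι := PEmpty.{1}) (V := PEmpty.elim) (c := fun i => i.elim)
          (fun x => isEmptyElim x) fun i => i.elim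
      exact subsingleton_ext_of_isZero hz q
    | succ k ih =>
      intro m hm q hq
      obtain ⟨V, hsep, hc, hS, hB⟩ := hsq m
      obtain ⟨p, rfl⟩ : ∃ p, q = p + 1 := ⟨q - 1, by omega⟩
      haveI := ih (m + 1) (by omega) (p + 1) hq
      haveI : Subsingleton (Ext.{u + 1} (fsh V) F (p + 1)) := subsingleton_ext_of_top V
        (subsingleton_ext_open_of_dim V hd (B := ⊤) CompactSpace.isCompact_univ F hF _ hq)
      have h₂ : Subsingleton (Ext.{u + 1} (seq hS).X₂ F (p + 1)) := subsingleton_ext_biprod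
      rcases Nat.lt_or_ge d p with hp | hp
      · haveI : Subsingleton (Ext.{u + 1} (seq hS).X₁ F p) := subsingleton_ext_open_of_dim V hd hB F hF p hp
        haveI := h₂
        exact subsingleton_of_ses (shortExact_seq hS) (q := p)
      · obtain rfl : p = d := by omega
        refine subsingleton_of_forall_eq 0 (eq_zero_of_extSurj (shortExact_seq hS) h₂ fun y => ?_)
        obtain ⟨z, hz⟩ := extSurj_openι V hd hB F hF (-y)
        refine ⟨(Ext.mk₀ (biprod.snd : shB (L (m + 1)) ⊞ fsh V ⟶ fsh V)).comp z (zero_add p), ?_⟩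
        show (Ext.mk₀ (sqA (L (m + 1)) V)).comp _ _ = y
        rw [Ext.mk₀_comp_mk₀_assoc, sqA, biprod.lift_snd,
          show Ext.mk₀ (-fshMap (openι V (preOpen (L (m + 1)) V))) = -Ext.mk₀ (fshMap (openι V (preOpen (L (m + 1)) V)))
            from Ext.addEquiv₀.symm.map_neg _, Ext.neg_comp]
        exact neg_eq_iff_eq_neg.2 hz
  haveI := main N 0 (by omega) q hq
  rw [hL0] at this
  let i := (presheafToSheaf (etTop X) AddCommGrpCat.{u + 1}).mapIso (zTopIso (X := X))
  refine subsingleton_of_forall_eq 0 fun x => ?_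
  have h' : (Ext.mk₀ i.hom).comp ((Ext.mk₀ i.inv).comp x (zero_add _)) (zero_add _) = x := by
    rw [Ext.mk₀_comp_mk₀_assoc, Iso.hom_inv_id, Ext.mk₀_id_comp]
  rw [← h', Subsingleton.elim ((Ext.mk₀ i.inv).comp x (zero_add _)) 0, Ext.comp_zero]

end Groth.L09.EtMV
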