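import Groth.Agent.L09.EtMV.Square
import Groth.Agent.L09.EtCoh.Qcoh
import Mathlib.AlgebraicGeometry.Morphisms.Affine
import Mathlib.AlgebraicGeometry.Morphisms.QuasiCompact

/-!
# Bounded cohomology of quasi-compact opens of separated objects
-/

universe u

open CategoryTheory CategoryTheory.Limits AlgebraicGeometry Opposite AlgSp TopologicalSpace CategoryTheory.Abelian

set_option autoImplicit false
set_option linter.style.haveILetI false
set_option backward.isDefEq.respectTransparency false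
set_option backward.isDefEq.respectTransparency.types false

noncomputable section

namespace Groth.L09.EtMV

open Groth.L09.EtCoh Groth.L09.EtAlt
open Groth.L09.ModEt (IsCover openObj openι)

variable {S : Scheme.{u}} {X : Sp S} {V : EtOver X}

theorem subsingleton_ext_biprod {A B F : AbEt X} {q : ℕ} [Subsingleton (Ext.{u + 1} A F q)]
    [Subsingleton (Ext.{u + 1} B F q)] : Subsingleton (Ext.{u + 1} (A ⊞ B) F q) :=
  subsingleton_of_forall_eq 0 fun x => by
    have hA : (Ext.mk₀ (biprod.inl : A ⟶ A ⊞ B)).comp x (zero_add q) = 0 := Subsingleton.elim _ _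
    have hB : (Ext.mk₀ (biprod.inr : B ⟶ A ⊞ B)).comp x (zero_add q) = 0 := Subsingleton.elim _ _
    exact Ext.biprod_ext (hA.trans (Ext.comp_zero _ _ _ _ _).symm) (hB.trans (Ext.comp_zero _ _ _ _ _).symm)

theorem subsingleton_of_ses {T : ShortComplex (AbEt X)} (hT : T.ShortExact) {F : AbEt X} {q : ℕ}
    [Subsingleton (Ext.{u + 1} T.X₁ F q)] [Subsingleton (Ext.{u + 1} T.X₂ F (q + 1))] :
    Subsingleton (Ext.{u + 1} T.X₃ F (q + 1)) :=
  subsingleton_of_forall_eq 0 fun x => by
    obtain ⟨y, rfl⟩ := Ext.contravariant_sequence_exact₃ hT _ x (Subsingleton.elim _ _) (add_comm 1 q)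
    rw [Subsingleton.elim y 0, Ext.comp_zero]

/-- The inclusion of opens, as a morphism of the site. -/
def oMap {A B : V.obj.left.left.Opens} (hAB : A ≤ B) : openObj V A ⟶ openObj V B :=
  EtOver.homMk (Over.homMk (V.obj.left.left.homOfLE hAB) (by
    show V.obj.left.left.homOfLE hAB ≫ B.ι ≫ _ = A.ι ≫ _
    rw [← Category.assoc, Scheme.homOfLE_ι _ hAB])) (by
    show (yon S).map _ ≫ (yon S).map _ ≫ V.obj.hom = (yon S).map _ ≫ V.obj.hom
    rw [← Category.assoc, ← Functor.map_comp]
    exact congrArg (fun k => (yon S).map k ≫ V.obj.hom) (Over.OverMorphism.ext (Scheme.homOfLE_ι _ hAB)))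

@[reassoc]
theorem oMap_ι {A B : V.obj.left.left.Opens} (hAB : A ≤ B) : oMap hAB ≫ openι V B = openι V A :=
  EtOver.hom_ext _ _ (Over.OverMorphism.ext (Scheme.homOfLE_ι _ hAB))

instance mono_oMap {A B : V.obj.left.left.Opens} (hAB : A ≤ B) : Mono (oMap hAB) :=
  mono_of_mono_fac (oMap_ι hAB)

theorem oMap_comp {A B C : V.obj.left.left.Opens} (hAB : A ≤ B) (hBC : B ≤ C) :
    oMap hAB ≫ oMap hBC = oMap (hAB.trans hBC) := by
  rw [← cancel_mono (openι V C), Category.assoc, oMap_ι, oMap_ι, oMap_ι]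

variable (A B : V.obj.left.left.Opens)

theorem ext_sup {G : AbEt X} {s t : G.obj.obj (op (openObj V (A ⊔ B)))}
    (hA : ares G (oMap (le_sup_left : A ≤ A ⊔ B)) s = ares G (oMap le_sup_left) t)
    (hB : ares G (oMap (le_sup_right : B ≤ A ⊔ B)) s = ares G (oMap le_sup_right) t) : s = t := by
  have hex : ∀ x : (openObj V (A ⊔ B)).obj.left.left, ∃ (W : EtOver X) (k : W ⟶ openObj V (A ⊔ B)),
      x ∈ Set.range k.hom.left.left ∧ ares G k s = ares G k t := by
    intro x
    rcases x.2 with hx | hx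
    · exact ⟨_, oMap le_sup_left, ⟨⟨x.1, hx⟩, Subtype.ext (Scheme.homOfLE_apply le_sup_left _)⟩, hA⟩
    · exact ⟨_, oMap le_sup_right, ⟨⟨x.1, hx⟩, Subtype.ext (Scheme.homOfLE_apply le_sup_right _)⟩, hB⟩
  choose W k hk heq using hex
  exact aeq_of_cover G (c := k) (fun x => ⟨x, hk x⟩) heq

theorem factor_inf {W : EtOver X} (a : W ⟶ openObj V A) (b : W ⟶ openObj V B)
    (h : a ≫ openι V A = b ≫ openι V B) :
    ∃ c : W ⟶ openObj V (A ⊓ B), c ≫ oMap inf_le_left = a ∧ c ≫ oMap inf_le_right = b := by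
  have hr : Set.range (a ≫ openι V A).hom.left.left ⊆ Set.range (A ⊓ B : V.obj.left.left.Opens).ι := by
    rintro _ ⟨w, rfl⟩
    rw [Scheme.Opens.range_ι]
    have e := congrArg (fun k => k.hom.left.left w) h
    refine ⟨(a.hom.left.left w).2, ?_⟩
    show (a ≫ openι V A).hom.left.left w ∈ B
    rw [show (a ≫ openι V A).hom.left.left w = (b ≫ openι V B).hom.left.left w from e]
    exact (b.hom.left.left w).2
  let C := A ⊓ B
  let l := IsOpenImmersion.lift C.ι (a ≫ openι V A).hom.left.left hr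
  have hl : l ≫ C.ι = (a ≫ openι V A).hom.left.left := IsOpenImmersion.lift_fac _ _ _
  let l' : W.obj.left ⟶ (openObj V C).obj.left := Over.homMk l (by
    show l ≫ C.ι ≫ V.obj.left.hom = _
    rw [← Category.assoc, hl]
    exact Over.w (a ≫ openι V A).hom.left)
  have hl' : l' ≫ (openι V C).hom.left = (a ≫ openι V A).hom.left := Over.OverMorphism.ext hl
  let c : W ⟶ openObj V C := EtOver.homMk l' (by
    refine (congrArg (fun k => (yon S).map l' ≫ k) (EtOver.w (openι V C)).symm).trans ?_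
    rw [← Category.assoc, ← Functor.map_comp, hl']
    exact EtOver.w (a ≫ openι V A))
  have hc : c ≫ openι V C = a ≫ openι V A := EtOver.hom_ext _ _ hl'
  refine ⟨c, ?_, ?_⟩
  · rw [← cancel_mono (openι V A), Category.assoc, oMap_ι, hc]
  · rw [← cancel_mono (openι V B), Category.assoc, oMap_ι, hc, h]

theorem exists_glue_sup {G : AbEt X} (s₁ : G.obj.obj (op (openObj V A))) (s₂ : G.obj.obj (op (openObj V B)))
    (h : ares G (oMap (inf_le_left : A ⊓ B ≤ A)) s₁ = ares G (oMap inf_le_right) s₂) :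
    ∃ t : G.obj.obj (op (openObj V (A ⊔ B))),
      ares G (oMap le_sup_left) t = s₁ ∧ ares G (oMap le_sup_right) t = s₂ := by
  let W : ULift.{u + 1} Bool → EtOver X := fun b => cond b.down (openObj V A) (openObj V B)
  let c : ∀ b, W b ⟶ openObj V (A ⊔ B) := fun b => match b with
    | ⟨true⟩ => oMap le_sup_left
    | ⟨false⟩ => oMap le_sup_right
  let s : ∀ b, G.obj.obj (op (W b)) := fun b => match b with
    | ⟨true⟩ => s₁
    | ⟨false⟩ => s₂
  have hcov : IsCover c := fun x => by
    rcases x.2 with hx | hx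
    · exact ⟨⟨true⟩, ⟨x.1, hx⟩, Subtype.ext (Scheme.homOfLE_apply le_sup_left _)⟩
    · exact ⟨⟨false⟩, ⟨x.1, hx⟩, Subtype.ext (Scheme.homOfLE_apply le_sup_right _)⟩
  have hm : ∀ {Z : EtOver X} (a : Z ⟶ openObj V A) (b : Z ⟶ openObj V B),
      a ≫ oMap (le_sup_left : A ≤ A ⊔ B) = b ≫ oMap le_sup_right → ares G a s₁ = ares G b s₂ := by
    intro Z a b e
    obtain ⟨c, rfl, rfl⟩ := factor_inf A B a b (by
      have := congrArg (fun k => k ≫ openι V (A ⊔ B)) e
      simpa only [Category.assoc, oMap_ι] using this)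
    rw [ares_comp, ares_comp, h]
  obtain ⟨t, ht⟩ := aexists_glue G hcov s fun i j => by
    obtain ⟨i⟩ := i
    obtain ⟨j⟩ := j
    cases i <;> cases j
    · exact congrArg (fun k => ares G k s₂) ((cancel_mono (oMap (le_sup_right : B ≤ A ⊔ B))).1
        (EtOver.pullback_condition (c ⟨false⟩) (c ⟨false⟩)))
    · exact (hm _ _ (EtOver.pullback_condition (c ⟨false⟩) (c ⟨true⟩)).symm).symm
    · exact hm _ _ (EtOver.pullback_condition (c ⟨true⟩) (c ⟨false⟩))
    · exact congrArg (fun k => ares G k s₁) ((cancel_mono (oMap (le_sup_left : A ≤ A ⊔ B))).1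
        (EtOver.pullback_condition (c ⟨true⟩) (c ⟨true⟩)))
  exact ⟨t, ht ⟨true⟩, ht ⟨false⟩⟩

/-- The first map. -/
def oA : fsh (openObj V (A ⊓ B)) ⟶ fsh (openObj V A) ⊞ fsh (openObj V B) :=
  biprod.lift (fshMap (oMap inf_le_left)) (-fshMap (oMap inf_le_right))

theorem oA_oB : oA A B ≫ biprod.desc (fshMap (oMap (le_sup_left : A ≤ A ⊔ B))) (fshMap (oMap le_sup_right)) = 0 := by
  rw [oA, biprod.lift_desc, Preadditive.neg_comp, ← sub_eq_add_neg, sub_eq_zero, fshMap, fshMap, fshMap, fshMap,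
    ← Functor.map_comp, ← Functor.map_comp]
  refine congrArg _ (fp_hom_ext ?_)
  simp only [NatTrans.comp_app, ConcreteCategory.comp_apply, fpMap_gen]
  rw [Category.id_comp, Category.id_comp, oMap_comp, oMap_comp]

/-- The sequence of two opens. -/
abbrev oSeq : ShortComplex (AbEt X) := ShortComplex.mk _ _ (oA_oB A B)

theorem shortExact_oSeq : (oSeq A B).ShortExact := by
  haveI : Mono (oSeq A B).f := by
    show Mono (oA A B)
    haveI := mono_fshMap (oMap (inf_le_left : A ⊓ B ≤ A))
    exact mono_of_mono_fac (biprod.lift_fst _ _ : oA A B ≫ biprod.fst = _)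
  have hex : ∀ {G : AbEt X} (k : fsh (openObj V A) ⊞ fsh (openObj V B) ⟶ G), oA A B ≫ k = 0 →
      ∃! l : fsh (openObj V (A ⊔ B)) ⟶ G,
        biprod.desc (fshMap (oMap (le_sup_left : A ≤ A ⊔ B))) (fshMap (oMap le_sup_right)) ≫ l = k := by
    intro G k hk
    obtain ⟨t, ht₁, ht₂⟩ := exists_glue_sup A B (fshEquiv _ G (biprod.inl ≫ k)) (fshEquiv _ G (biprod.inr ≫ k)) (by
      rw [← fshEquiv_map, ← fshEquiv_map]
      refine congrArg (fshEquiv _ G) ?_
      rw [oA, biprod.lift_eq, Preadditive.add_comp, Preadditive.neg_comp, Preadditive.neg_comp, Category.assoc,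
        Category.assoc, add_neg_eq_zero] at hk
      exact hk)
    refine ⟨(fshEquiv _ G).symm t, ?_, fun l hl => (fshEquiv _ G).injective ?_⟩
    · apply biprod.hom_ext'
      · rw [biprod.inl_desc_assoc]
        refine (fshEquiv _ G).injective ?_
        rw [fshEquiv_map, Equiv.apply_symm_apply, ht₁]
      · rw [biprod.inr_desc_assoc]
        refine (fshEquiv _ G).injective ?_
        rw [fshEquiv_map, Equiv.apply_symm_apply, ht₂]
    · rw [Equiv.apply_symm_apply]
      refine ext_sup A B ?_ ?_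
      · rw [ht₁, ← hl, biprod.inl_desc_assoc, fshEquiv_map]
      · rw [ht₂, ← hl, biprod.inr_desc_assoc, fshEquiv_map]
  let hc : IsColimit (CokernelCofork.ofπ (oSeq A B).g (oSeq A B).zero) := CokernelCofork.IsColimit.ofπ _ _
    (fun k hk => (hex k hk).exists.choose) (fun k hk => (hex k hk).exists.choose_spec)
    (fun k hk m hm => (hex k hk).unique hm (hex k hk).exists.choose_spec)
  haveI : Epi (oSeq A B).g := ⟨fun a b e => Cofork.IsColimit.hom_ext hc e⟩
  exact { exact := (oSeq A B).exact_of_g_is_cokernel hc }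

variable {A B}

theorem subsingleton_hom_of_isEmpty {E : EtOver X} [IsEmpty E.obj.left.left] (F : AbEt X) :
    Subsingleton (fsh E ⟶ F) := ⟨fun a b => (fshEquiv E F).injective
  (aeq_of_cover F (ι := PEmpty.{1}) (V := PEmpty.elim) (c := fun i => i.elim) (fun x => isEmptyElim x)
    fun i => i.elim)⟩

theorem isZero_fsh_of_isEmpty {E : EtOver X} [IsEmpty E.obj.left.left] : IsZero (fsh E) := by
  haveI := subsingleton_hom_of_isEmpty (E := E) (fsh E)
  exact (IsZero.iff_id_eq_zero _).2 (Subsingleton.elim _ _)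

theorem subsingleton_ext_of_isZero {A F : AbEt X} (hA : IsZero A) (q : ℕ) : Subsingleton (Ext.{u + 1} A F q) :=
  subsingleton_of_forall_eq 0 fun x => by
    rw [← Ext.mk₀_id_comp x, hA.eq_of_src (𝟙 A) 0, Ext.mk₀_zero, Ext.zero_comp]

/-- Unions of `n` affine opens of a separated object have cohomological dimension less than `n`. -/
theorem subsingleton_ext_of_list [V.obj.left.left.IsSeparated] (F : AbEt X) (hF : Cok F) :
    ∀ (n : ℕ) (l : List V.obj.left.left.Opens), l.length = n → (∀ C ∈ l, IsAffineOpen C) →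
      ∀ q, n ≤ q → Subsingleton (Ext.{u + 1} (fsh (openObj V (l.foldr (· ⊔ ·) ⊥))) F q) := by
  intro n
  induction n with
  | zero =>
    intro l hl _ q _
    rw [List.length_eq_zero_iff.1 hl, List.foldr_nil]
    haveI : IsEmpty (openObj V (⊥ : V.obj.left.left.Opens)).obj.left.left := ⟨fun x => x.2.elim⟩
    exact subsingleton_ext_of_isZero isZero_fsh_of_isEmpty q
  | succ n ih =>
    intro l hl hA q hq
    obtain ⟨m, rfl⟩ : ∃ m, q = m + 1 := ⟨q - 1, by omega⟩
    match l, hl with
    | C :: l, hl =>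
      have hl' : l.length = n := by simpa using hl
      let D := l.foldr (· ⊔ ·) ⊥
      have hinf : C ⊓ D = (l.map (C ⊓ ·)).foldr (· ⊔ ·) ⊥ := by
        have : ∀ k : List V.obj.left.left.Opens,
            C ⊓ k.foldr (· ⊔ ·) ⊥ = (k.map (C ⊓ ·)).foldr (· ⊔ ·) ⊥ := by
          intro k
          induction k with
          | nil => simp
          | cons a k h => simp only [List.foldr_cons, List.map_cons, inf_sup_left, h]
        exact this l
      haveI : Subsingleton (Ext.{u + 1} (oSeq C D).X₁ F m) := by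
        show Subsingleton (Ext.{u + 1} (fsh (openObj V (C ⊓ D))) F m)
        rw [hinf]
        refine ih _ (by rw [List.length_map, hl']) (fun E hE => ?_) m (by omega)
        obtain ⟨E', hE', rfl⟩ := List.mem_map.1 hE
        exact (hA C (by simp)).inf (hA E' (by simp [hE']))
      haveI : Subsingleton (Ext.{u + 1} (fsh (openObj V C)) F (m + 1)) := subsingleton_ext m F hF _ (hA C (by simp))
      haveI := ih l hl' (fun E hE => hA E (by simp [hE])) (m + 1) (by omega)
      haveI : Subsingleton (Ext.{u + 1} (oSeq C D).X₂ F (m + 1)) := subsingleton_ext_biprod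
      exact subsingleton_of_ses (shortExact_oSeq C D) (q := m)

end Groth.L09.EtMV
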