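import Groth.Agent.L09.EtMV.Basic
import Mathlib.Algebra.Homology.ShortComplex.ShortExact
import Mathlib.CategoryTheory.Preadditive.Biproducts

/-!
# The Mayer-Vietoris sequence of free sheaves of a distinguished square
-/

universe u

open CategoryTheory CategoryTheory.Limits AlgebraicGeometry Opposite AlgSp TopologicalSpace

set_option autoImplicit false
set_option linter.style.haveILetI false
set_option backward.isDefEq.respectTransparency false
set_option backward.isDefEq.respectTransparency.types false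

noncomputable section

namespace Groth.L09.EtMV

open Groth.L09.EtCoh Groth.L09.EtAlt
open Groth.L09.ModEt (IsCover openObj openι exists_common)

variable {S : Scheme.{u}} {X : Sp S}

/-- The inverse image of a region. -/
def preOpen (L : Opens (Points X)) (W : EtOver X) : W.obj.left.left.Opens :=
  ⟨Points.ofPt W.obj.hom ⁻¹' L, L.isOpen.preimage (Points.continuous_ofPt W.obj.hom)⟩

theorem inB_openObj (L : Opens (Points X)) (W : EtOver X) : InB L (openObj W (preOpen L W)) := fun w => by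
  rw [ofPt_map (openι W (preOpen L W)) w]
  exact w.2

instance mono_openι (W : EtOver X) (B : W.obj.left.left.Opens) : Mono (openι W B) :=
  ⟨fun a b h => EtOver.hom_ext _ _ (Over.OverMorphism.ext
    ((cancel_mono B.ι).1 (congrArg (fun k => k.hom.left.left) h)))⟩

theorem exists_factor_openι {L : Opens (Points X)} {W V : EtOver X} (g : W ⟶ V) (hW : InB L W) :
    ∃ g' : W ⟶ openObj V (preOpen L V), g' ≫ openι V (preOpen L V) = g := by
  let B := preOpen L V
  have hr : Set.range g.hom.left.left ⊆ Set.range B.ι := by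
    rintro _ ⟨w, rfl⟩
    rw [Scheme.Opens.range_ι]
    show Points.ofPt V.obj.hom (g.hom.left.left w) ∈ L
    rw [← ofPt_map]
    exact hW w
  let l := IsOpenImmersion.lift B.ι g.hom.left.left hr
  have hl : l ≫ B.ι = g.hom.left.left := IsOpenImmersion.lift_fac _ _ _
  let l' : W.obj.left ⟶ (openObj V B).obj.left := Over.homMk l (by
    show l ≫ B.ι ≫ V.obj.left.hom = _
    rw [← Category.assoc, hl]
    exact Over.w g.hom.left)
  have hl' : l' ≫ (openι V B).hom.left = g.hom.left := Over.OverMorphism.ext hl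
  refine ⟨EtOver.homMk l' ?_, EtOver.hom_ext _ _ hl'⟩
  refine (congrArg (fun k => (yon S).map l' ≫ k) (EtOver.w (openι V B)).symm).trans ?_
  rw [← Category.assoc, ← Functor.map_comp, hl']
  exact EtOver.w g

/-- A distinguished square: a smaller region and an object identifying the difference. -/
structure Sq (L' L : Opens (Points X)) (V : EtOver X) : Prop where
  le : L' ≤ L
  inB : InB L V
  cover : ∀ x ∈ L, x ∉ L' → ∃ v, Points.ofPt V.obj.hom v = x
  sep : ∀ (W : EtOver X) (g₁ g₂ : W ⟶ V) (w : W.obj.left.left), Points.ofPt W.obj.hom w ∉ L' →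
    w ∈ Set.range (EtOver.pullbackFst (pl g₁ g₂) (diagU V)).hom.left.left

variable {L' L : Opens (Points X)} {V : EtOver X} (h : Sq L' L V)

/-- The overlap. -/
abbrev ovl (L' : Opens (Points X)) (V : EtOver X) : EtOver X := openObj V (preOpen L' V)

/-- The first map. -/
def sqA (L' : Opens (Points X)) (V : EtOver X) : fsh (ovl L' V) ⟶ shB L' ⊞ fsh V :=
  biprod.lift (objInc (inB_openObj L' V)) (-fshMap (openι V (preOpen L' V)))

include h

theorem sqA_sqB : sqA L' V ≫ biprod.desc (shInc h.le) (objInc h.inB) = 0 := by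
  rw [sqA, biprod.lift_desc, Preadditive.neg_comp, ← sub_eq_add_neg, sub_eq_zero]
  apply (fshEquiv (ovl L' V) (shB L)).injective
  conv_lhs => rw [← Category.comp_id (shInc h.le)]
  conv_rhs => rw [← Category.comp_id (objInc h.inB)]
  rw [fshEquiv_objInc, shBEquiv_inc, fshEquiv_map, fshEquiv_objInc]
  exact ((shBEquiv L (shB L) (𝟙 _)).nat (openι V _) h.inB).symm

omit h in
/-- The sequence. -/
abbrev seq (h : Sq L' L V) : ShortComplex (AbEt X) := ShortComplex.mk _ _ (sqA_sqB h)

theorem exists_cover {W : EtOver X} (hW : InB L W) (w : W.obj.left.left) :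
    ∃ (W' : EtOver X) (k : W' ⟶ W), w ∈ Set.range k.hom.left.left ∧ (InB L' W' ∨ Nonempty (W' ⟶ V)) := by
  by_cases hw : Points.ofPt W.obj.hom w ∈ L'
  · exact ⟨_, openι W (preOpen L' W), ⟨⟨w, hw⟩, rfl⟩, Or.inl (inB_openObj L' W)⟩
  · obtain ⟨v, hv⟩ := h.cover _ (hW w) hw
    obtain ⟨W', -, g₁, g₂, w', hw', -⟩ := exists_common w v hv.symm
    exact ⟨W', g₁, ⟨w', hw'⟩, Or.inr ⟨g₂⟩⟩

theorem fam_ext {G : AbEt X} {s t : Fam L G.obj}
    (h₁ : ∀ W (hW : InB L' W), s.val W (hW.mono h.le) = t.val W (hW.mono h.le))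
    (h₂ : s.val V h.inB = t.val V h.inB) : s = t := by
  refine Fam.ext' fun W hW => ?_
  choose W' k hk hgood using exists_cover h hW
  refine aeq_of_cover G (c := k) (fun w => ⟨w, hk w⟩) fun w => ?_
  refine (s.nat (k w) hW).trans (Eq.trans ?_ (t.nat (k w) hW).symm)
  rcases hgood w with hg | ⟨⟨g⟩⟩
  · exact h₁ _ hg
  · exact (s.nat g h.inB).symm.trans ((congrArg (G.obj.map g.op) h₂).trans (t.nat g h.inB))

theorem exists_fam {G : AbEt X} (s₁ : Fam L' G.obj) (s₂ : G.obj.obj (op V))
    (hs : s₁.val (ovl L' V) (inB_openObj L' V) = ares G (openι V (preOpen L' V)) s₂) :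
    ∃ s : Fam L G.obj, (∀ W (hW : InB L' W), s.val W (hW.mono h.le) = s₁.val W hW) ∧ s.val V h.inB = s₂ := by
  have hA : ∀ {W : EtOver X} (hW : InB L' W) (g : W ⟶ V), s₁.val W hW = ares G g s₂ := by
    intro W hW g
    obtain ⟨g', rfl⟩ := exists_factor_openι g hW
    rw [ares_comp, ← hs]
    exact (s₁.nat g' _).symm
  have hB : ∀ {W : EtOver X} (g₁ g₂ : W ⟶ V), ares G g₁ s₂ = ares G g₂ s₂ := by
    intro W g₁ g₂
    have hex : ∀ w : W.obj.left.left, ∃ (W' : EtOver X) (k : W' ⟶ W),
        w ∈ Set.range k.hom.left.left ∧ ares G (k ≫ g₁) s₂ = ares G (k ≫ g₂) s₂ := by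
      intro w
      by_cases hw : Points.ofPt W.obj.hom w ∈ L'
      · exact ⟨_, openι W (preOpen L' W), ⟨⟨w, hw⟩, rfl⟩,
          (hA (inB_openObj L' W) _).symm.trans (hA (inB_openObj L' W) _)⟩
      · refine ⟨_, _, h.sep W g₁ g₂ w hw, congrArg (fun m => ares G m s₂) ?_⟩
        have hc := EtOver.pullback_condition (pl g₁ g₂) (diagU V)
        have h₁ := congrArg (fun m => m ≫ EtOver.prodFst V V) hc
        have h₂ := congrArg (fun m => m ≫ EtOver.prodSnd V V) hc
        simp only [diagU, Category.assoc, pl_fst, pl_snd] at h₁ h₂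
        exact h₁.trans h₂.symm
    choose W' k hk heq using hex
    refine aeq_of_cover G (c := k) (fun w => ⟨w, hk w⟩) fun w => ?_
    rw [← ares_comp, ← ares_comp]
    exact heq w
  let Val : ∀ W : EtOver X, G.obj.obj (op W) → Prop := fun W t =>
    (∀ hW : InB L' W, t = s₁.val W hW) ∧ ∀ g : W ⟶ V, t = ares G g s₂
  have hval : ∀ W, (InB L' W ∨ Nonempty (W ⟶ V)) → ∃ t, Val W t := by
    rintro W (hW | ⟨⟨g⟩⟩)
    · exact ⟨_, fun _ => rfl, fun g => hA hW g⟩
    · exact ⟨_, fun hW => (hA hW g).symm, fun g' => hB g g'⟩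
  have huniq : ∀ W, (InB L' W ∨ Nonempty (W ⟶ V)) → ∀ t t', Val W t → Val W t' → t = t' := by
    rintro W (hW | ⟨⟨g⟩⟩) t t' ht ht'
    · exact (ht.1 hW).trans (ht'.1 hW).symm
    · exact (ht.2 g).trans (ht'.2 g).symm
  have hres : ∀ {W W' : EtOver X} (k : W' ⟶ W) {t}, (InB L' W ∨ Nonempty (W ⟶ V)) → Val W t →
      Val W' (ares G k t) := by
    intro W W' k t hW ht
    rcases hW with hW | ⟨⟨g⟩⟩
    · rw [ht.1 hW]
      refine ⟨fun _ => s₁.nat k hW, fun g' => ?_⟩
      exact (s₁.nat k hW).trans (hA _ g')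
    · rw [ht.2 g, ← ares_comp]
      exact ⟨fun hW' => (hA hW' _).symm, fun g' => hB _ g'⟩
  have hex : ∀ W, InB L W → ∃ t : G.obj.obj (op W), ∀ (W' : EtOver X) (k : W' ⟶ W),
      (InB L' W' ∨ Nonempty (W' ⟶ V)) → Val W' (ares G k t) := by
    intro W hW
    choose W₀ k₀ hk₀ hg₀ using exists_cover h hW
    choose v hv using fun w => hval _ (hg₀ w)
    obtain ⟨t, ht⟩ := aexists_glue G (c := k₀) (fun w => ⟨w, hk₀ w⟩) v fun i j => by
      have hg : InB L' (EtOver.pullbackObj (k₀ i) (k₀ j)) ∨ Nonempty (EtOver.pullbackObj (k₀ i) (k₀ j) ⟶ V) := by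
        rcases hg₀ i with hi | ⟨⟨g⟩⟩
        · exact Or.inl (hi.comp (EtOver.pullbackFst (k₀ i) (k₀ j)))
        · exact Or.inr ⟨EtOver.pullbackFst (k₀ i) (k₀ j) ≫ g⟩
      exact huniq _ hg _ _ (hres _ (hg₀ i) (hv i)) (hres _ (hg₀ j) (hv j))
    refine ⟨t, fun W' k hgood => ?_⟩
    obtain ⟨u, hu⟩ := hval W' hgood
    have hku : ares G k t = u := by
      refine aeq_of_cover G (c := fun w => EtOver.pullbackFst k (k₀ w))
        (IsCover.pullback k (c := k₀) fun w => ⟨w, hk₀ w⟩) fun w => ?_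
      have hg : InB L' (EtOver.pullbackObj k (k₀ w)) ∨ Nonempty (EtOver.pullbackObj k (k₀ w) ⟶ V) := by
        rcases hgood with hi | ⟨⟨g⟩⟩
        · exact Or.inl (hi.comp (EtOver.pullbackFst k (k₀ w)))
        · exact Or.inr ⟨EtOver.pullbackFst k (k₀ w) ≫ g⟩
      rw [← ares_comp, EtOver.pullback_condition, ares_comp, ht]
      exact huniq _ hg _ _ (hres _ (hg₀ w) (hv w)) (hres _ hgood hu)
    rw [hku]
    exact hu
  choose t ht using hex
  refine ⟨⟨t, fun {W W'} g hW => ?_⟩, fun W hW => ?_, ?_⟩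
  · choose W₁ k₁ hk₁ hg₁ using exists_cover h (hW.comp g)
    refine aeq_of_cover G (c := k₁) (fun w => ⟨w, hk₁ w⟩) fun w => ?_
    show ares G (k₁ w) (ares G g (t W hW)) = _
    rw [← ares_comp]
    exact huniq _ (hg₁ w) _ _ (ht W hW _ _ (hg₁ w)) (ht W' (hW.comp g) _ (k₁ w) (hg₁ w))
  · show t W _ = _
    rw [show t W (hW.mono h.le) = ares G (𝟙 W) (t W (hW.mono h.le)) from
      (ConcreteCategory.congr_hom (G.obj.map_id _) _).symm]
    exact (ht W _ W (𝟙 W) (Or.inl hW)).1 hW
  · show t V h.inB = _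
    rw [show t V h.inB = ares G (𝟙 V) (t V h.inB) from (ConcreteCategory.congr_hom (G.obj.map_id _) _).symm]
    exact ((ht V _ V (𝟙 V) (Or.inr ⟨𝟙 V⟩)).2 (𝟙 V)).trans (ConcreteCategory.congr_hom (G.obj.map_id _) _)

theorem existsUnique_desc {G : AbEt X} (k : shB L' ⊞ fsh V ⟶ G) (hk : sqA L' V ≫ k = 0) :
    ∃! l : shB L ⟶ G, biprod.desc (shInc h.le) (objInc h.inB) ≫ l = k := by
  have hs : (shBEquiv L' G (biprod.inl ≫ k)).val (ovl L' V) (inB_openObj L' V) =
      ares G (openι V (preOpen L' V)) (fshEquiv V G (biprod.inr ≫ k)) := by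
    rw [← fshEquiv_objInc, ← fshEquiv_map]
    refine congrArg (fshEquiv (ovl L' V) G) ?_
    have h0 := hk
    rw [sqA, biprod.lift_eq, Preadditive.add_comp, Preadditive.neg_comp, Preadditive.neg_comp, Category.assoc,
      Category.assoc, add_neg_eq_zero] at h0
    exact h0
  obtain ⟨s, hs₁, hs₂⟩ := exists_fam h _ _ hs
  refine ⟨(shBEquiv L G).symm s, ?_, fun l hl => (shBEquiv L G).injective ?_⟩
  · apply biprod.hom_ext'
    · rw [biprod.inl_desc_assoc]
      refine (shBEquiv L' G).injective (Fam.ext' fun W hW => ?_)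
      rw [shBEquiv_inc, Equiv.apply_symm_apply]
      exact hs₁ W hW
    · rw [biprod.inr_desc_assoc]
      refine (fshEquiv V G).injective ?_
      rw [fshEquiv_objInc, Equiv.apply_symm_apply]
      exact hs₂
  · rw [Equiv.apply_symm_apply]
    refine fam_ext h (fun W hW => ?_) ?_
    · rw [hs₁ W hW, ← hl, biprod.inl_desc_assoc, shBEquiv_inc]
    · rw [hs₂, ← hl, biprod.inr_desc_assoc, fshEquiv_objInc]

/-- The Mayer-Vietoris sequence of free sheaves is short exact. -/
theorem shortExact_seq : (seq h).ShortExact := by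
  haveI : Mono (seq h).f := by
    show Mono (sqA L' V)
    haveI := mono_fshMap (openι V (preOpen L' V))
    haveI : Mono (-fshMap (openι V (preOpen L' V))) :=
      ⟨fun a b e => (cancel_mono (fshMap (openι V (preOpen L' V)))).1 (neg_injective (by
        simpa only [Preadditive.comp_neg] using e))⟩
    exact mono_of_mono_fac (biprod.lift_snd _ _ : sqA L' V ≫ biprod.snd = _)
  let hc : IsColimit (CokernelCofork.ofπ (seq h).g (seq h).zero) := CokernelCofork.IsColimit.ofπ _ _
    (fun k hk => (existsUnique_desc h k hk).exists.choose)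
    (fun k hk => (existsUnique_desc h k hk).exists.choose_spec)
    (fun k hk m hm => (existsUnique_desc h k hk).unique hm (existsUnique_desc h k hk).exists.choose_spec)
  haveI : Epi (seq h).g := ⟨fun a b e => Cofork.IsColimit.hom_ext hc e⟩
  exact { exact := (seq h).exact_of_g_is_cokernel hc }

end Groth.L09.EtMV
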