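import Groth.Agent.L09.EtMV.Opens
import Groth.Agent.L10.ExtCompare
import Groth.Agent.L10.TopCoh
import Groth.Agent.L10.Spectral.Vanishing
import Mathlib.Topology.Spectral.Basic

/-!
# Comparison with Zariski cohomology on an object and vanishing above its dimension
-/

universe w w' v v' u u'

open CategoryTheory CategoryTheory.Limits CategoryTheory.Abelian

set_option autoImplicit false
set_option linter.style.haveILetI false
set_option backward.isDefEq.respectTransparency false
set_option backward.isDefEq.respectTransparency.types false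

noncomputable section

namespace Groth.L09.EtMV

section Shift

variable {C : Type u} [Category.{v} C] [Abelian C] [HasExt.{w} C] {A' A : C} (f : A' ⟶ A)

/-- Surjectivity of restriction of classes. -/
def ExtSurj (F : C) (q : ℕ) : Prop :=
  Function.Surjective fun x : Ext.{w} A F q => (Ext.mk₀ f).comp x (zero_add q)

variable {f} {T : ShortComplex C} (hT : T.ShortExact)
include hT

theorem extSurj_succ_of (hA : ∀ m, Subsingleton (Ext.{w} A' T.X₂ (m + 1))) {q : ℕ}
    (h : ExtSurj f T.X₃ (q + 1)) : ExtSurj f T.X₁ (q + 2) := fun x => by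
  haveI := hA (q + 1)
  obtain ⟨y, rfl⟩ := Ext.covariant_sequence_exact₁ _ hT x (Subsingleton.elim _ _) (n₀ := q + 1) rfl
  obtain ⟨z, rfl⟩ := h y
  exact ⟨z.comp hT.extClass rfl, (Ext.comp_assoc _ _ _ (zero_add _) rfl (by omega)).symm⟩

theorem of_extSurj_succ (hA' : ∀ m, Subsingleton (Ext.{w} A' T.X₂ (m + 1)))
    (hA : ∀ m, Subsingleton (Ext.{w} A T.X₂ (m + 1))) {q : ℕ}
    (h : ExtSurj f T.X₁ (q + 2)) : ExtSurj f T.X₃ (q + 1) := fun y => by
  obtain ⟨x, hx⟩ := h (y.comp hT.extClass rfl)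
  haveI := hA (q + 1)
  obtain ⟨z, rfl⟩ := Ext.covariant_sequence_exact₁ _ hT x (Subsingleton.elim _ _) (n₀ := q + 1) rfl
  refine ⟨z, ?_⟩
  have h0 : ((Ext.mk₀ f).comp z (zero_add _) - y).comp hT.extClass rfl = 0 := by
    rw [sub_eq_add_neg, Ext.add_comp, Ext.neg_comp, ← sub_eq_add_neg, sub_eq_zero]
    exact (Ext.comp_assoc _ _ _ (zero_add _) rfl (by omega)).trans hx
  obtain ⟨t, ht⟩ := Ext.covariant_sequence_exact₃ _ hT _ rfl h0
  haveI := hA' q
  rw [Subsingleton.elim t 0, Ext.zero_comp] at ht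
  exact sub_eq_zero.1 ht.symm

theorem extSurj_one_iff (hA' : Subsingleton (Ext.{w} A' T.X₂ 1)) (hA : Subsingleton (Ext.{w} A T.X₂ 1)) :
    ExtSurj f T.X₁ 1 ↔ ∀ y : A' ⟶ T.X₃, ∃ (z : A ⟶ T.X₃) (t : A' ⟶ T.X₂), y = f ≫ z + t ≫ T.g := by
  constructor
  · intro h y
    obtain ⟨x, hx⟩ := h ((Ext.mk₀ y).comp hT.extClass (zero_add 1))
    haveI := hA
    obtain ⟨z', rfl⟩ := Ext.covariant_sequence_exact₁ _ hT x (Subsingleton.elim _ _) (n₀ := 0) rfl
    obtain ⟨z, rfl⟩ := (Ext.mk₀_bijective _ _).2 z'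
    have h0 : (Ext.mk₀ (y - f ≫ z)).comp hT.extClass (zero_add 1) = 0 := by
      rw [show Ext.mk₀ (y - f ≫ z) = Ext.mk₀ y + -Ext.mk₀ (f ≫ z) by
        rw [sub_eq_add_neg, Ext.mk₀_add]
        congr 1
        exact Ext.addEquiv₀.symm.map_neg _, Ext.add_comp, Ext.neg_comp, add_neg_eq_zero, ← hx,
        ← Ext.mk₀_comp_mk₀]
      exact (Ext.comp_assoc _ _ _ (zero_add _) rfl (by omega)).symm
    obtain ⟨t', ht⟩ := Ext.covariant_sequence_exact₃ _ hT _ rfl h0
    obtain ⟨t, rfl⟩ := (Ext.mk₀_bijective _ _).2 t'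
    rw [Ext.mk₀_comp_mk₀] at ht
    exact ⟨z, t, by rw [(Ext.mk₀_bijective _ _).1 ht, add_sub_cancel]⟩
  · intro h x
    haveI := hA'
    obtain ⟨y', rfl⟩ := Ext.covariant_sequence_exact₁ _ hT x (Subsingleton.elim _ _) (n₀ := 0) rfl
    obtain ⟨y, rfl⟩ := (Ext.mk₀_bijective _ _).2 y'
    obtain ⟨z, t, rfl⟩ := h y
    refine ⟨(Ext.mk₀ z).comp hT.extClass (zero_add 1), ?_⟩
    show (Ext.mk₀ f).comp ((Ext.mk₀ z).comp hT.extClass (zero_add 1)) (zero_add 1) = _
    rw [Ext.mk₀_add, Ext.add_comp, ← Ext.mk₀_comp_mk₀ t T.g, Ext.comp_assoc_of_second_deg_zero,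
      hT.comp_extClass, Ext.comp_zero, add_zero, ← Ext.mk₀_comp_mk₀ f z]
    exact (Ext.comp_assoc _ _ _ (zero_add _) rfl (by omega)).symm

end Shift

open AlgebraicGeometry Opposite AlgSp TopologicalSpace
open Groth.L09.EtCoh
open Groth.L09.ModEt (IsCover openObj openι)

variable {S : Scheme.{u}} {X : Sp S} (V : EtOver X)

/-- The underlying space, lifted. -/
abbrev Vt : TopCat.{u + 1} := TopCat.of (ULift.{u + 1} V.obj.left.left)

/-- Opens of the scheme from opens of the lifted space. -/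
def dnB (B : Opens (Vt V)) : V.obj.left.left.Opens := ⟨ULift.up ⁻¹' B, B.isOpen.preimage continuous_uliftUp⟩

theorem dnB_le {B C : Opens (Vt V)} (h : B ≤ C) : dnB V B ≤ dnB V C := fun _ hx => h hx

/-- Opens as objects of the site. -/
def opFun : Opens (Vt V) ⥤ EtOver X where
  obj B := openObj V (dnB V B)
  map h := oMap (dnB_le V h.le)
  map_id B := by
    rw [← cancel_mono (openι V (dnB V B)), oMap_ι, Category.id_comp]
  map_comp _ _ := (oMap_comp _ _).symm

theorem isSheaf_rObj (F : AbEt X) :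
    Presheaf.IsSheaf (Opens.grothendieckTopology (Vt V)) ((opFun V).op ⋙ F.obj) := by
  refine (Presheaf.isSheaf_iff_isSheaf_forget _ _ (CategoryTheory.forget AddCommGrpCat.{u + 1})).2
    ((isSheaf_iff_isSheaf_of_type _ _).2 ?_)
  intro B R hR x hx
  choose C k hk hC using fun p : (openObj V (dnB V B)).obj.left.left => hR ⟨p.1⟩ p.2
  have hmem : ∀ p : (openObj V (dnB V B)).obj.left.left,
      p ∈ Set.range ((opFun V).map (k p)).hom.left.left := fun p =>
    ⟨⟨p.1, hC p⟩, Subtype.ext (Scheme.homOfLE_apply (dnB_le V (k p).le) _)⟩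
  obtain ⟨t, ht⟩ := aexists_glue F (c := fun p => (opFun V).map (k p)) (fun p => ⟨p, hmem p⟩)
    (fun p => x (k p) (hk p)) fun i j => by
      let Z := EtOver.pullbackObj ((opFun V).map (k i)) ((opFun V).map (k j))
      obtain ⟨c, hc₁, hc₂⟩ := factor_inf (dnB V (C i)) (dnB V (C j))
        (EtOver.pullbackFst ((opFun V).map (k i)) ((opFun V).map (k j)) : Z ⟶ openObj V (dnB V (C i)))
        (EtOver.pullbackSnd ((opFun V).map (k i)) ((opFun V).map (k j)) : Z ⟶ openObj V (dnB V (C j))) (by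
          have e := congrArg (fun m => m ≫ openι V (dnB V B))
            (EtOver.pullback_condition ((opFun V).map (k i)) ((opFun V).map (k j)))
          simp only [opFun, Category.assoc, oMap_ι] at e
          exact e)
      have h1 := hx (homOfLE (inf_le_left : C i ⊓ C j ≤ C i)) (homOfLE (inf_le_right : C i ⊓ C j ≤ C j))
        (hk i) (hk j) (Subsingleton.elim _ _)
      change ares F (oMap _) (x (k i) (hk i)) = ares F (oMap _) (x (k j) (hk j)) at h1
      rw [← hc₁, ← hc₂]
      refine (ares_comp F _ _ _).trans ((congrArg (ares F c) ?_).trans (ares_comp F _ _ _).symm)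
      exact h1
  refine ⟨t, fun D g hg => ?_, fun t' ht' => ?_⟩
  · show ares F ((opFun V).map g) t = x g hg
    have hex : ∀ p : (openObj V (dnB V D)).obj.left.left, ∃ (E : Opens (Vt V)) (a : E ⟶ D),
        p ∈ Set.range ((opFun V).map a).hom.left.left ∧
          ares F ((opFun V).map a) (ares F ((opFun V).map g) t) = ares F ((opFun V).map a) (x g hg) := by
      intro p
      let q : (openObj V (dnB V B)).obj.left.left := ⟨p.1, dnB_le V g.le p.2⟩
      refine ⟨D ⊓ C q, homOfLE inf_le_left, ⟨⟨p.1, p.2, hC q⟩, Subtype.ext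
        (Scheme.homOfLE_apply (dnB_le V inf_le_left) _)⟩, ?_⟩
      rw [← ares_comp, ← Functor.map_comp,
        show homOfLE inf_le_left ≫ g = homOfLE (inf_le_right : D ⊓ C q ≤ C q) ≫ k q from Subsingleton.elim _ _,
        Functor.map_comp, ares_comp, ht]
      exact hx _ _ (hk q) hg (Subsingleton.elim _ _)
    choose E a ha heq using hex
    exact aeq_of_cover F (c := fun p => (opFun V).map (a p)) (fun p => ⟨p, ha p⟩) heq
  · exact aeq_of_cover F (c := fun p => (opFun V).map (k p)) (fun p => ⟨p, hmem p⟩) fun p =>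
      (ht' (k p) (hk p)).trans (ht p).symm

/-- Restriction to the Zariski site of an object. -/
def rF : AbEt X ⥤ CohTop.Ab (Vt V) where
  obj F := ⟨(opFun V).op ⋙ F.obj, isSheaf_rObj V F⟩
  map φ := ⟨Functor.whiskerLeft (opFun V).op φ.hom⟩

instance : (rF V).PreservesZeroMorphisms := ⟨fun _ _ => rfl⟩

theorem isFlasque_rF (I : AbEt X) [Injective I] : TopCat.Sheaf.IsFlasque ((rF V).obj I) := by
  refine ⟨fun {B C} i => (AddCommGrpCat.epi_iff_surjective _).2 fun s => ?_⟩
  haveI : Mono ((opFun V).map i.unop) := mono_oMap (dnB_le V i.unop.le)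
  haveI := mono_fshMap ((opFun V).map i.unop)
  refine ⟨fshEquiv _ I (Injective.factorThru ((fshEquiv _ I).symm s) (fshMap ((opFun V).map i.unop))), ?_⟩
  show ares I ((opFun V).map i.unop) _ = s
  rw [← fshEquiv_map, Injective.comp_factorThru, Equiv.apply_symm_apply]

theorem shortExact_map_rF {T : ShortComplex (AbEt X)} (hT : T.ShortExact) (h₁ : Cok T.X₁) :
    (T.map (rF V)).ShortExact := by
  haveI := hT.mono_f
  haveI : Mono (T.map (rF V)).f := by
    refine Functor.mono_of_mono_map (sheafToPresheaf _ _) ?_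
    rw [NatTrans.mono_iff_mono_app]
    intro B
    rw [AddCommGrpCat.mono_iff_injective]
    exact app_injective_of_mono T.f ((opFun V).obj B.unop)
  haveI : Epi (T.map (rF V)).g := by
    refine (Sheaf.isLocallySurjective_iff_epi' _ _).1 ⟨fun {B} t => ?_⟩
    intro p hp
    obtain ⟨_, ⟨(C : V.obj.left.left.Opens), hC, rfl⟩, hpC, hCB⟩ :=
      V.obj.left.left.isBasis_affineOpens.exists_subset_of_mem_open (show p.down ∈ dnB V B from hp) (dnB V B).isOpen
    let C' : Opens (Vt V) := ⟨ULift.down ⁻¹' C, C.isOpen.preimage continuous_uliftDown⟩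
    refine ⟨C', homOfLE fun q hq => hCB hq, ?_, hpC⟩
    haveI : IsAffine (openObj V (dnB V C')).obj.left.left := hC
    exact surjective_app hT h₁ (openObj V (dnB V C')) _
  let T' := T.map (rF V)
  haveI : IsIso (kernel.lift T'.g T'.f T'.zero) := by
    have hsurj : ∀ B : Opens (Vt V), Function.Surjective ((kernel.lift T'.g T'.f T'.zero).hom.app (op B)) := by
      intro B x
      obtain ⟨z, hz⟩ := exists_of_app_eq_zero hT ((opFun V).obj B) ((kernel.ι T'.g).hom.app (op B) x)
        (ConcreteCategory.congr_hom (NatTrans.congr_app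
          ((sheafToPresheaf _ _).congr_map (kernel.condition T'.g)) (op B)) x)
      refine ⟨z, (AddCommGrpCat.mono_iff_injective ((kernel.ι T'.g).hom.app (op B))).1
        ((NatTrans.mono_iff_mono_app ((sheafToPresheaf _ _).map (kernel.ι T'.g))).1 inferInstance (op B)) ?_⟩
      exact (ConcreteCategory.congr_hom (NatTrans.congr_app
        ((sheafToPresheaf _ _).congr_map (kernel.lift_ι T'.g T'.f T'.zero)) (op B)) z).trans hz
    haveI : Epi (kernel.lift T'.g T'.f T'.zero) :=
      (Sheaf.isLocallySurjective_iff_epi' _ _).1 ⟨fun {B} t =>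
        GrothendieckTopology.superset_covering _ (fun W a _ => hsurj W _)
          ((Opens.grothendieckTopology (Vt V)).top_mem B)⟩
    exact isIso_of_mono_of_epi _
  exact { exact := T'.exact_iff_epi_kernel_lift.2 inferInstance }

/-- Maps out of free sheaves on opens compared. -/
def eOpen (B : Opens (Vt V)) (F : AbEt X) :
    (fsh (openObj V (dnB V B)) ⟶ F) ≃+ (Groth.L10.SiteCoh.fs _ B ⟶ (rF V).obj F) :=
  ({ toEquiv := fshEquiv (openObj V (dnB V B)) F, map_add' := fun a b => by
        let adj := sheafificationAdjunction (etTop X) AddCommGrpCat.{u + 1}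
        show ((adj.homAddEquiv (fp (openObj V (dnB V B))) F) (a + b)).app (op _) _ =
          ((adj.homAddEquiv _ F) a).app (op _) _ + ((adj.homAddEquiv _ F) b).app (op _) _
        rw [map_add]
        rfl } : (fsh (openObj V (dnB V B)) ⟶ F) ≃+ F.obj.obj (op (openObj V (dnB V B)))).trans
    (Groth.L10.SiteCoh.secEquiv _ B ((rF V).obj F)).symm

theorem secEquiv_eOpen (B : Opens (Vt V)) (F : AbEt X) (g : fsh (openObj V (dnB V B)) ⟶ F) :
    Groth.L10.SiteCoh.secEquiv _ B ((rF V).obj F) (eOpen V B F g) = fshEquiv (openObj V (dnB V B)) F g :=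
  AddEquiv.apply_symm_apply (Groth.L10.SiteCoh.secEquiv _ B ((rF V).obj F)) _

theorem eOpen_comp (B : Opens (Vt V)) {F F' : AbEt X} (φ : F ⟶ F') (g : fsh (openObj V (dnB V B)) ⟶ F) :
    eOpen V B F' (g ≫ φ) = eOpen V B F g ≫ (rF V).map φ := by
  apply (Groth.L10.SiteCoh.secEquiv _ B ((rF V).obj F')).injective
  rw [Groth.L10.SiteCoh.secEquiv_comp]
  show Groth.L10.SiteCoh.secEquiv _ B ((rF V).obj F') ((Groth.L10.SiteCoh.secEquiv _ B ((rF V).obj F')).symm
      (fshEquiv (openObj V (dnB V B)) F' (g ≫ φ))) = ((rF V).map φ).hom.app (op B)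
    (Groth.L10.SiteCoh.secEquiv _ B ((rF V).obj F) ((Groth.L10.SiteCoh.secEquiv _ B ((rF V).obj F)).symm
      (fshEquiv (openObj V (dnB V B)) F g)))
  rw [AddEquiv.apply_symm_apply, AddEquiv.apply_symm_apply]
  exact fshEquiv_comp g φ

/-- Cohomology of opens of an object is Zariski cohomology. -/
theorem nonempty_ext_open (B : Opens (Vt V)) (F : AbEt X) (hF : Cok F) (n : ℕ) :
    Nonempty (Ext.{u + 1} (fsh (openObj V (dnB V B))) F n ≃+
      Ext.{u + 1} (Groth.L10.SiteCoh.fs (Opens.grothendieckTopology (Vt V)) B) ((rF V).obj F) n) := by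
  have hs : ∀ G : AbEt X, (ShortComplex.mk (Injective.ι G) (cokernel.π (Injective.ι G))
      (cokernel.condition _)).ShortExact := fun G => { exact := ShortComplex.cokernelSequence_exact _ }
  exact Groth.L10.nonempty_ext_compare _ _ (rF V) Cok (eOpen V B) (fun φ g => eOpen_comp V B φ g)
    (fun G hG => cok_quotient (hs G) hG (cok_of_injective _)) (fun G hG => shortExact_map_rF V (hs G) hG)
    (fun I m hI => by
      haveI := hI
      exact Groth.L10.TopCoh.subsingleton_ext_of_flasque _ (isFlasque_rF V I) B m) F hF n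

theorem extSurj_open {B C : Opens (Vt V)} (i : C ⟶ B) :
    ∀ (q : ℕ) (F : AbEt X), Cok F →
      ExtSurj (Groth.L10.SiteCoh.fsMap (Opens.grothendieckTopology (Vt V)) i) ((rF V).obj F) q →
      ExtSurj (fshMap ((opFun V).map i)) F q := by
  intro q
  induction q using Nat.strong_induction_on with
  | _ q ih =>
    intro F hF h
    match q, h, ih with
    | 0, h, _ =>
      intro x
      obtain ⟨g, rfl⟩ := (Ext.mk₀_bijective _ _).2 x
      obtain ⟨z', hz⟩ := h (Ext.mk₀ ((Groth.L10.SiteCoh.secEquiv _ C ((rF V).obj F)).symm (fshEquiv _ F g)))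
      obtain ⟨z, rfl⟩ := (Ext.mk₀_bijective _ _).2 z'
      refine ⟨Ext.mk₀ ((fshEquiv _ F).symm (Groth.L10.SiteCoh.secEquiv _ B ((rF V).obj F) z)), ?_⟩
      show (Ext.mk₀ _).comp (Ext.mk₀ _) (zero_add 0) = _
      rw [Ext.mk₀_comp_mk₀]
      refine congrArg Ext.mk₀ ((fshEquiv _ F).injective ?_)
      change (Ext.mk₀ _).comp (Ext.mk₀ _) (zero_add 0) = _ at hz
      rw [Ext.mk₀_comp_mk₀] at hz
      have := congrArg (Groth.L10.SiteCoh.secEquiv _ C ((rF V).obj F)) ((Ext.mk₀_bijective _ _).1 hz)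
      rw [Groth.L10.SiteCoh.secEquiv_map, AddEquiv.apply_symm_apply] at this
      rw [fshEquiv_map, Equiv.apply_symm_apply]
      exact this
    | q + 1, h, ih =>
      obtain ⟨T, rfl, hT, hI⟩ := hull F
      haveI := hI
      have hT' := shortExact_map_rF V hT hF
      have hZ : ∀ (D : Opens (Vt V)) m, Subsingleton (Ext.{u + 1} (Groth.L10.SiteCoh.fs
          (Opens.grothendieckTopology (Vt V)) D) (T.map (rF V)).X₂ (m + 1)) := fun D m =>
        Groth.L10.TopCoh.subsingleton_ext_of_flasque _ (isFlasque_rF V T.X₂) D m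
      have hE : ∀ (E : EtOver X) m, Subsingleton (Ext.{u + 1} (fsh E) T.X₂ (m + 1)) := fun E m =>
        Ext.subsingleton_of_injective _ _ m
      match q, h, ih with
      | 0, h, _ =>
        refine (extSurj_one_iff hT (hE _ 0) (hE _ 0)).2 fun y => ?_
        obtain ⟨z, t, hzt⟩ := (extSurj_one_iff hT' (hZ _ 0) (hZ _ 0)).1 h
          ((Groth.L10.SiteCoh.secEquiv _ C ((rF V).obj T.X₃)).symm (fshEquiv _ T.X₃ y))
        refine ⟨(fshEquiv _ T.X₃).symm (Groth.L10.SiteCoh.secEquiv _ B ((rF V).obj T.X₃) z),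
          (fshEquiv _ T.X₂).symm (Groth.L10.SiteCoh.secEquiv _ C ((rF V).obj T.X₂) t),
          (eOpen V C T.X₃).injective ?_⟩
        apply (Groth.L10.SiteCoh.secEquiv _ C ((rF V).obj T.X₃)).injective
        have := congrArg (Groth.L10.SiteCoh.secEquiv _ C ((rF V).obj T.X₃)) hzt
        rw [map_add, Groth.L10.SiteCoh.secEquiv_map, AddEquiv.apply_symm_apply] at this
        rw [map_add, map_add, secEquiv_eOpen]
        erw [secEquiv_eOpen, secEquiv_eOpen]
        refine this.trans (congrArg₂ (· + ·) ?_ ?_)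
        · show _ = fshEquiv _ T.X₃ (_ ≫ _)
          rw [fshEquiv_map, Equiv.apply_symm_apply]
          rfl
        · show _ = fshEquiv _ T.X₃ (_ ≫ _)
          rw [fshEquiv_comp, Equiv.apply_symm_apply]
          exact Groth.L10.SiteCoh.secEquiv_comp _ _
      | r + 1, h, ih =>
        exact extSurj_succ_of hT (hE _) (ih (r + 1) (by omega) T.X₃ (cok_quotient hT hF (cok_of_injective _))
          (of_extSurj_succ hT' (hZ _) (hZ _) h))

theorem spectralSpace_Vt [CompactSpace V.obj.left.left] [QuasiSeparatedSpace V.obj.left.left] :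
    SpectralSpace (Vt V) := by
  haveI : SpectralSpace V.obj.left.left := {}
  exact (Homeomorph.ulift.{u + 1} (X := ↥V.obj.left.left)).isOpenEmbedding.spectralSpace

end Groth.L09.EtMV
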